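import Mathlib

/-!
Words and labels of the certificate for the automorphisms of the O'Nan group (generated data).
-/

set_option autoImplicit false
set_option maxRecDepth 100000
set_option linter.all false

namespace H62
namespace ONOut
namespace Cert

/-- points whose images determine an element -/
def bs : List ℕ := [0,15,17611]

def wx : List ℕ :=
  [0,1,2,3,4,5]

def wy : List ℕ :=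
  [2,3,2,1,3,2,4,3,2,1,0,3,2,3,4,3,2,1,3,2,3,2,4]

def we : List ℕ :=
  [0,1,0,2,3,2,1,5,4,3,2,1,3,2,4,3,6,3,4,3,2,1,3,7,2,1,4,6,3,2,3]

def we2 : List ℕ :=
  [0,2,1,3,2,4,3,2,5,4,3,2,1,3,2,3,2,1,4,3,2,3,2,4,3,2,1,5,0,2,1,3,2,1,3,4,3,2,1,3,2,1,4,3,2,1,0,3,5,4,3,2,6,1,0,2,1,4,3,2,1,7,4,7,3,4,6,2]

def fixY : List ℕ :=
  [0,4350,15052,36168,66356,95965,113964,115947,118270]

def xRest : List ℕ :=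
  [444,2228,47038,74144,47591,2559,643,17,53,138,668,24889,121034,118435,24454,540,82,43]

def xLab : List ℕ :=
  [2,3,1,2,1,3,1,1,1,1,1,1,3,1,2,1,3,2]

def xCands : List (List ℕ × List ℕ) :=
  [([],[15,444,2228,47038,74144,47591,2559,643,17,53,138,668,24889,121034,118435,24454,540,82,43]),([0,1,2,3,4,5],[444,2228,47038,74144,47591,2559,643,17,53,138,668,24889,121034,118435,24454,540,82,43,15]),([0,1,2,3,4,5,0,1,2,3,4,5],[2228,47038,74144,47591,2559,643,17,53,138,668,24889,121034,118435,24454,540,82,43,15,444]),([0,1,2,3,4,5,0,1,2,3,4,5,0,1,2,3,4,5],[47038,74144,47591,2559,643,17,53,138,668,24889,121034,118435,24454,540,82,43,15,444,2228]),([0,1,2,3,4,5,0,1,2,3,4,5,0,1,2,3,4,5,0,1,2,3,4,5],[74144,47591,2559,643,17,53,138,668,24889,121034,118435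,24454,540,82,43,15,444,2228,47038]),([0,1,2,3,4,5,0,1,2,3,4,5,0,1,2,3,4,5,0,1,2,3,4,5,0,1,2,3,4,5],[47591,2559,643,17,53,138,668,24889,121034,118435,24454,540,82,43,15,444,2228,47038,74144]),([0,1,2,3,4,5,0,1,2,3,4,5,0,1,2,3,4,5,0,1,2,3,4,5,0,1,2,3,4,5,0,1,2,3,4,5],[2559,643,17,53,138,668,24889,121034,118435,24454,540,82,43,15,444,2228,47038,74144,47591]),([0,1,2,3,4,5,0,1,2,3,4,5,0,1,2,3,4,5,0,1,2,3,4,5,0,1,2,3,4,5,0,1,2,3,4,5,0,1,2,3,4,5],[643,17,53,138,668,24889,121034,118435,24454,540,82,43,15,444,2228,47038,74144,47591,2559]),([0,1,2,3,4,5,0,1,2,3,4,5,0,1,2,3,4,5,0,1,2,3,4,5,0,1,2,3,4,5,0,1,2,3,4,5,0,1,2,3,4,5,0,1,2,3,4,5],[17,53,138,668,24889,121034,118435,24454,540,82,43,15,444,2228,47038,74144,47591,2559,643]),([0,1,2,3,4,5,0,1,2,3,4,5,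0,1,2,3,4,5,0,1,2,3,4,5,0,1,2,3,4,5,0,1,2,3,4,5,0,1,2,3,4,5,0,1,2,3,4,5,0,1,2,3,4,5],[53,138,668,24889,121034,118435,24454,540,82,43,15,444,2228,47038,74144,47591,2559,643,17]),([0,1,2,3,4,5,0,1,2,3,4,5,0,1,2,3,4,5,0,1,2,3,4,5,0,1,2,3,4,5,0,1,2,3,4,5,0,1,2,3,4,5,0,1,2,3,4,5,0,1,2,3,4,5,0,1,2,3,4,5],[138,668,24889,121034,118435,24454,540,82,43,15,444,2228,47038,74144,47591,2559,643,17,53]),([0,1,2,3,4,5,0,1,2,3,4,5,0,1,2,3,4,5,0,1,2,3,4,5,0,1,2,3,4,5,0,1,2,3,4,5,0,1,2,3,4,5,0,1,2,3,4,5,0,1,2,3,4,5,0,1,2,3,4,5,0,1,2,3,4,5],[668,24889,121034,118435,24454,540,82,43,15,444,2228,47038,74144,47591,2559,643,17,53,138]),([0,1,2,3,4,5,0,1,2,3,4,5,0,1,2,3,4,5,0,1,2,3,4,5,0,1,2,3,4,5,0,1,2,3,4,5,0,1,2,3,4,5,0,1,2,3,4,5,0,1,2,3,4,5,0,1,2,3,4,5,0,1,2,3,4,5,0,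1,2,3,4,5],[24889,121034,118435,24454,540,82,43,15,444,2228,47038,74144,47591,2559,643,17,53,138,668]),([0,1,2,3,4,5,0,1,2,3,4,5,0,1,2,3,4,5,0,1,2,3,4,5,0,1,2,3,4,5,0,1,2,3,4,5,0,1,2,3,4,5,0,1,2,3,4,5,0,1,2,3,4,5,0,1,2,3,4,5,0,1,2,3,4,5,0,1,2,3,4,5,0,1,2,3,4,5],[121034,118435,24454,540,82,43,15,444,2228,47038,74144,47591,2559,643,17,53,138,668,24889]),([0,1,2,3,4,5,0,1,2,3,4,5,0,1,2,3,4,5,0,1,2,3,4,5,0,1,2,3,4,5,0,1,2,3,4,5,0,1,2,3,4,5,0,1,2,3,4,5,0,1,2,3,4,5,0,1,2,3,4,5,0,1,2,3,4,5,0,1,2,3,4,5,0,1,2,3,4,5,0,1,2,3,4,5],[118435,24454,540,82,43,15,444,2228,47038,74144,47591,2559,643,17,53,138,668,24889,121034]),([0,1,2,3,4,5,0,1,2,3,4,5,0,1,2,3,4,5,0,1,2,3,4,5,0,1,2,3,4,5,0,1,2,3,4,5,0,1,2,3,4,5,0,1,2,3,4,5,0,1,2,3,4,5,0,1,2,3,4,5,0,1,2,3,4,5,0,1,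2,3,4,5,0,1,2,3,4,5,0,1,2,3,4,5,0,1,2,3,4,5],[24454,540,82,43,15,444,2228,47038,74144,47591,2559,643,17,53,138,668,24889,121034,118435]),([0,1,2,3,4,5,0,1,2,3,4,5,0,1,2,3,4,5,0,1,2,3,4,5,0,1,2,3,4,5,0,1,2,3,4,5,0,1,2,3,4,5,0,1,2,3,4,5,0,1,2,3,4,5,0,1,2,3,4,5,0,1,2,3,4,5,0,1,2,3,4,5,0,1,2,3,4,5,0,1,2,3,4,5,0,1,2,3,4,5,0,1,2,3,4,5],[540,82,43,15,444,2228,47038,74144,47591,2559,643,17,53,138,668,24889,121034,118435,24454]),([0,1,2,3,4,5,0,1,2,3,4,5,0,1,2,3,4,5,0,1,2,3,4,5,0,1,2,3,4,5,0,1,2,3,4,5,0,1,2,3,4,5,0,1,2,3,4,5,0,1,2,3,4,5,0,1,2,3,4,5,0,1,2,3,4,5,0,1,2,3,4,5,0,1,2,3,4,5,0,1,2,3,4,5,0,1,2,3,4,5,0,1,2,3,4,5,0,1,2,3,4,5],[82,43,15,444,2228,47038,74144,47591,2559,643,17,53,138,668,24889,121034,118435,24454,540]),([0,1,2,3,4,5,0,1,2,3,4,5,0,1,2,3,4,5,0,1,2,3,4,5,0,1,2,3,4,5,0,1,2,3,4,5,0,1,2,3,4,5,0,1,2,3,4,5,0,1,2,3,4,5,0,1,2,3,4,5,0,1,2,3,4,5,0,1,2,3,4,5,0,1,2,3,4,5,0,1,2,3,4,5,0,1,2,3,4,5,0,1,2,3,4,5,0,1,2,3,4,5,0,1,2,3,4,5],[43,15,444,2228,47038,74144,47591,2559,643,17,53,138,668,24889,121034,118435,24454,540,82])]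

def xPins : List (ℕ × ℕ) :=
  [(15,1),(444,1),(2228,1),(47038,4),(74144,1),(47591,1),(2559,2),(643,4),(17,2)]

def yRest : List ℕ :=
  [866,30204,63904,760,109629]

def yLab : List ℕ :=
  [3,4,2,4,3]

def yCands : List (List ℕ × List ℕ) :=
  [([],[10260,866,30204,63904,760,109629]),([0,1,4,3,2,5,4,3,2,1,3,2,3,4,3,2,1,3,2,1,3,4],[29886,37586,16214,19004,109630,46139]),([1,4,3,2,1,3,2,3,4,3,2,1,3,2,3,2,1,0,4,3,5,4],[109630,46139,29886,37586,16214,19004]),([2,3,2,1,3,2,4,3,2,1,0,3,2,3,4,3,2,1,3,2,3,2,4],[866,30204,63904,760,109629,10260]),([2,4,3,2,1,0,3,2,3,4,3,2,1,3,2,3,2,1,4,3,2,3,2],[109629,10260,866,30204,63904,760]),([2,3,2,1,4,3,2,1,3,2,4,3,2,5,4,3,2,1,3,2,3,2,4,3,2],[63904,760,109629,10260,866,30204]),([0,1,0,5,4,3,2,1,0,3,2,1,4,3,2,5,4,3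,2,1,3,2,4,3,2,1,3],[37586,16214,19004,109630,46139,29886]),([1,0,2,1,3,2,1,0,3,2,4,3,2,1,0,3,2,1,4,3,2,1,3,2,1,4,5],[19004,109630,46139,29886,37586,16214]),([0,2,1,3,2,4,3,2,5,4,3,2,1,3,2,3,2,1,4,3,2,3,2,4,3,2,1,5],[30204,63904,760,109629,10260,866]),([1,2,3,2,5,4,3,2,1,3,2,4,3,2,1,3,2,3,2,4,3,2,1,0,5,4,3,2],[760,109629,10260,866,30204,63904]),([2,1,3,2,1,4,3,2,1,3,2,1,4,3,2,1,3,2,4,3,2,1,3,2,3,4,3,5,4],[46139,29886,37586,16214,19004,109630]),([0,1,0,2,4,3,2,5,4,3,2,1,3,2,3,4,3,2,1,3,2,3,4,3,5,4,3,2,1,0],[16214,19004,109630,46139,29886,37586])]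

def zRest : List ℕ :=
  [5226,41335,47038,121044,63436]

def zLab : List ℕ :=
  [2,2,1,2,2]

def yPins1 : List (ℕ × ℕ) :=
  [(10260,2),(866,1),(30204,4),(63904,4),(760,2),(109629,1)]

def yPins2 : List (ℕ × ℕ) :=
  [(15,1),(5226,3),(41335,1),(47038,4),(121044,1),(63436,2),(10260,2),(866,2),(30204,2),(63904,3)]

def nRest : List ℕ :=
  [105213,33809,26491,57513,19233]

def nLab : List ℕ :=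
  [3,2,1,2,3]

def reach : List (ℕ × List ℕ) :=
  [(0,[]),(4350,[1,0,2,1,4,3,2,3,2,1,4,3,2,3,6,1,2,3,2,6,1,0,4,5]),(66356,[1,0,3,2,3,4,3,2,1,3,2,1,4,3,2,1,3,5,4,3,2,1,6,1,2,3,2,3,4,3,2,6,1,2,7,3]),(113964,[0,1,0,2,3,2,1,5,4,3,2,1,3,2,4,3,6,3,4,3,2,1,3,7,2,1,4,6,3,2,3]),(115947,[1,4,3,2,3,5,4,3,2,1,0,3,2,4,6,4,3,2,1,5,4,3,2,3,2,1,7,4,7]),(118270,[0,2,1,3,2,1,3,4,3,2,1,3,2,1,4,3,2,1,0,3,5,4,3,2,6,1,0,2,1,4,3,2,1,7,4,7,3,4,6,2])]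

def away : List (ℕ × List ℕ × List ℕ) :=
  [(15052,[6,1,0,2,1,3,6,2,4,3,2,1],[6,1,0,2,1,3,6,2,4,3,2,1,2,3,2,1,3,2,4,3,2,1,0,3,2,3,4,3,2,1,3,2,3,2,4,1,2,3,4,2,7,3,1,2,0,1,7]),(36168,[6,1,2,3,2,3,4,3,6,4,6,1,2],[6,1,2,3,2,3,4,3,6,4,6,1,2,2,3,2,1,3,2,4,3,2,1,0,3,2,3,4,3,2,1,3,2,3,2,4,2,1,7,4,7,3,4,3,2,3,2,1,7]),(95965,[6,1,0,2,3,2,4,7,1,7,2,3,2,1,4],[6,1,0,2,3,2,4,7,1,7,2,3,2,1,4,2,3,2,1,3,2,4,3,2,1,0,3,2,3,4,3,2,1,3,2,3,2,4,4,1,2,3,2,6,1,6,4,2,3,2,0,1,7])]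

def gw : List (List ℕ) :=
  [[0,1,1,1,2,0,2,0,0,2,0,1,0,0,0,2,1,0,2,0,0,2,1,0,1,0,0],[0,0,1,1,1,2,0,2,0,0,2,0,1,0,0,0,2,1,0,2,0,0,2,1,0,1,0],[1,1,0,0,1,2,0,2,0,0,2,0,1,0,0,0,2,1,0,2,0,0,2,1,0,1],[1,1,0,1,0,2,0,2,0,0,2,0,1,0,0,0,2,1,0,2,0,0,2,1,1,0],[1,1,0,1,2,0,2,0,0,2,0,1,0,0,0,2,1,0,2,0,0,2,1,1],[1,0,1,1,2,0,2,0,0,2,0,1,0,0,0,2,1,0,2,0,0,2,1,0,0,1,0,0],[1,0,0,1,0,2,0,2,0,0,0,2,2,0,0,2,1,0,2,0,2,1,0,2,0,1,0,2,1,1,0,0],[1,2,0,1,0,0,1,2,2,0,2,0,2,0,2,0,2,0,0,2,2,1,0,2,0,0,1,0,2,0]]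

def vw : List (List ℕ) :=
  [[1,3,4,3,2,3,6,4,3,2,1,3,2,6,3,6,4,2,1,7,3,2,3,4,3,1],[1,3,2,4,3,7,1,4,3,2,1,3,2,3,4,3,1,7,4,3,2,3,0,1],[4,3,2,1,7,2,3,2,4,3,2,1,3,7,2,3,1,6,4,2,3,7,4,2,1,6,3],[2,7,1,4,3,6,2,1,3,7,2,4,3,6,4,2,3,2,3,1,2,3,6,4,3,2,1],[2,1,4,3,2,7,1,4,3,6,2,6,3,4,2,3,2,1,6,2,3,4,1,2],[1,2,1,4,3,2,6,1,4,3,6,2,6,3,4,2,3,2,1,7,2,3,4,1,2,1],[1,3,4,3,2,3,6,4,3,2,1,3,2,6,3,6,4,2,1,7,3,2,3,4,3,1,1,7,1,2,4,3,6,2,6,1,4,7,2,3,4,2,3,0,1,2,3,4,0,1,7,3,0],[0,3,6,1,0,4,3,2,1,0,3,2,4,3,2,6,4,1,7,2,7,3,4,2,1,6,1,1,3,4,3,2,3,6,1,2,4,7,3,7,2,3,1,2,3,4,7,3,2,3,4,3,1]]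

def seps1 : List (List ℕ × ℕ) :=
  [([1,1,1,2,2,2],1),([1,1,1,2,2,2],1),([1,1,1,2,2,2],1),([0,2],16),([0,2],16),([0,0,2,0,2],8),([1,1,1,2,2,2],1),([1,1,1,2,2,2],1),([1,1,1,2,2,2],1),([1,1,1,2,2,2],1),([1,1,1,2,2,2],1),([1,1,1,2,2,2],1),([1,1,1,2,2,2],1),([1,1,1,2,2,2],1),([1,1,1,2,2,2],1),([1,1,1,2,2,2],1),([1,1,1,2,2,2],1),([1,1,1,2,2,2],1),([1,1,1,2,2,2],1),([1,1,1,2,2,2],1),([1,1,1,2,2,2],1),([1,1,1,2,2,2],1),([1,1,1,2,2,2],1),([1,1,1,2,2,2],1),([1,1,1,2,2,2],1),([1,1,1,2,2,2],1),([1,1,1,2,2,2],1),([1,1,1,2,2,2],1),([1,1,1,2,2,2],1),([1,1,1,2,2,2],1),([1,1,1,2,2,2],1),([1,1,1,2,2,2],1),([1,1,1,2,2,2],1),([1,1,1,2,2,2],1),([1,1,1,2,2,2],1),([1,1,1,2,2,2],1),([],0),([1,1,1,2,2,2],1),([1,1,1,2,2,2],1),([1,1,1,2,2,2],1),([1,1,1,2,2,2],1),([1,1,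1,2,2,2],1),([1,1,1,2,2,2],1),([1,1,1,2,2,2],1),([0,2],16),([0,0,1,2],11),([1,1,1,2,2,2],1),([1,1,1,2,2,2],1),([1,1,1,2,2,2],1),([1,1,1,2,2,2],1),([1,1,1,2,2,2],1),([1,1,1,2,2,2],1),([1,1,1,2,2,2],1),([1,1,1,2,2,2],1),([1,1,1,2,2,2],1),([1,1,1,2,2,2],1),([1,1,1,2,2,2],1),([1,1,1,2,2,2],1),([1,1,1,2,2,2],1),([1,1,1,2,2,2],1),([0,0,1,2],11),([1,1,1,2,2,2],1),([1,1,1,2,2,2],1),([1,1,1,2,2,2],1),([1,1,1,2,2,2],1),([1,1,1,2,2,2],1),([1,1,1,2,2,2],1),([1,1,1,2,2,2],1),([],0),([0,2],16),([1,1,1,2,2,2],1),([1,1,1,2,2,2],1)]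

def seps2 : List (List ℕ × ℕ) :=
  [([1,1,1,2,2,2],1),([1,1,1,2,2,2],1),([1,1,1,2,2,2],1),([0,2],16),([0,2],16),([0,0,2,0,2],8),([1,1,1,2,2,2],1),([1,1,1,2,2,2],1),([1,1,1,2,2,2],1),([1,1,1,2,2,2],1),([1,1,1,2,2,2],1),([1,1,1,2,2,2],1),([1,1,1,2,2,2],1),([1,1,1,2,2,2],1),([1,1,1,2,2,2],1),([1,1,1,2,2,2],1),([1,1,1,2,2,2],1),([1,1,1,2,2,2],1),([1,1,1,2,2,2],1),([1,1,1,2,2,2],1),([1,1,1,2,2,2],1),([1,1,1,2,2,2],1),([1,1,1,2,2,2],1),([1,1,1,2,2,2],1),([1,1,1,2,2,2],1),([1,1,1,2,2,2],1),([1,1,1,2,2,2],1),([1,1,1,2,2,2],1),([1,1,1,2,2,2],1),([1,1,1,2,2,2],1),([1,1,1,2,2,2],1),([1,1,1,2,2,2],1),([1,1,1,2,2,2],1),([1,1,1,2,2,2],1),([1,1,1,2,2,2],1),([1,1,1,2,2,2],1),([0,2],16),([1,1,1,2,2,2],1),([1,1,1,2,2,2],1),([1,1,1,2,2,2],1),([1,1,1,2,2,2],1),([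1,1,1,2,2,2],1),([1,1,1,2,2,2],1),([1,1,1,2,2,2],1),([0,2],16),([0,2],16),([1,1,1,2,2,2],1),([1,1,1,2,2,2],1),([1,1,1,2,2,2],1),([1,1,1,2,2,2],1),([1,1,1,2,2,2],1),([1,1,1,2,2,2],1),([1,1,1,2,2,2],1),([1,1,1,2,2,2],1),([1,1,1,2,2,2],1),([1,1,1,2,2,2],1),([1,1,1,2,2,2],1),([1,1,1,2,2,2],1),([1,1,1,2,2,2],1),([1,1,1,2,2,2],1),([0,2],16),([1,1,1,2,2,2],1),([1,1,1,2,2,2],1),([1,1,1,2,2,2],1),([1,1,1,2,2,2],1),([1,1,1,2,2,2],1),([1,1,1,2,2,2],1),([1,1,1,2,2,2],1),([0,2],16),([0,2],16),([1,1,1,2,2,2],1),([1,1,1,2,2,2],1)]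

def seps4 : List (List ℕ × ℕ) :=
  [([1,1,1,2,2,2],1),([1,1,1,2,2,2],1),([1,1,1,2,2,2],1),([0,2],16),([0,2],16),([0,0,2,0,2],8),([1,1,1,2,2,2],1),([1,1,1,2,2,2],1),([1,1,1,2,2,2],1),([1,1,1,2,2,2],1),([1,1,1,2,2,2],1),([1,1,1,2,2,2],1),([1,1,1,2,2,2],1),([1,1,1,2,2,2],1),([1,1,1,2,2,2],1),([1,1,1,2,2,2],1),([1,1,1,2,2,2],1),([1,1,1,2,2,2],1),([1,1,1,2,2,2],1),([1,1,1,2,2,2],1),([1,1,1,2,2,2],1),([1,1,1,2,2,2],1),([1,1,1,2,2,2],1),([1,1,1,2,2,2],1),([1,1,1,2,2,2],1),([1,1,1,2,2,2],1),([1,1,1,2,2,2],1),([1,1,1,2,2,2],1),([1,1,1,2,2,2],1),([1,1,1,2,2,2],1),([1,1,1,2,2,2],1),([1,1,1,2,2,2],1),([1,1,1,2,2,2],1),([1,1,1,2,2,2],1),([1,1,1,2,2,2],1),([1,1,1,2,2,2],1),([0,0,2,0,2],8),([1,1,1,2,2,2],1),([1,1,1,2,2,2],1),([1,1,1,2,2,2],1),([1,1,1,2,2,2],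1),([1,1,1,2,2,2],1),([1,1,1,2,2,2],1),([1,1,1,2,2,2],1),([0,2],16),([0,0,2,0,2],8),([1,1,1,2,2,2],1),([1,1,1,2,2,2],1),([1,1,1,2,2,2],1),([1,1,1,2,2,2],1),([1,1,1,2,2,2],1),([1,1,1,2,2,2],1),([1,1,1,2,2,2],1),([1,1,1,2,2,2],1),([1,1,1,2,2,2],1),([1,1,1,2,2,2],1),([1,1,1,2,2,2],1),([1,1,1,2,2,2],1),([1,1,1,2,2,2],1),([1,1,1,2,2,2],1),([0,0,2,0,2],8),([1,1,1,2,2,2],1),([1,1,1,2,2,2],1),([1,1,1,2,2,2],1),([1,1,1,2,2,2],1),([1,1,1,2,2,2],1),([1,1,1,2,2,2],1),([1,1,1,2,2,2],1),([0,0,2,0,2],8),([0,2],16),([1,1,1,2,2,2],1),([1,1,1,2,2,2],1)]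

end Cert
end ONOut
end H62
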