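import Mathlib
import Cfsg.Agent.H93.CI.Order
import Cfsg.Agent.H93.CI.Orbits

/-!
Exhaustive searches in the stabiliser of the first node of a checked coset table, using the
invariant label of a pair of nodes.
-/

set_option autoImplicit false

namespace H62
namespace ONOut

open H93 H93.CosetI

variable (D : Data) (OR : ℕ → ℕ)

/-- walk `q` along the tree path from `p` to the first node, and take the orbit number -/
noncomputable def lbR (f : ℕ) : ℕ → ℕ → ℕ :=
  Nat.rec (motive := fun _ => ℕ → ℕ → ℕ) (fun _ q => oid OR q)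
    (fun _ ih p q => Bool.rec (motive := fun _ => ℕ)
      (force (D.PA p) fun e => force (D.T (D.iv (e % 64)) q) fun q' =>
        force (e / 64) fun p' => ih p' q')
      (oid OR q) (Nat.beq p 0)) f

/-- the label of a pair of nodes -/
noncomputable def lb (p q : ℕ) : ℕ := lbR D OR D.n p q

/-- all letters are letters of the table -/
def lett (w : List ℕ) : Bool := w.all fun g => Nat.blt g D.ng

/-- the words agree on the points `bs` -/
noncomputable def agree (bs u v : List ℕ) : Bool :=
  lett D u && lett D v &&
    bs.all fun f => walk D.T u f fun a => walk D.T v f fun b => Nat.beq a b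

/-- the words differ at one of the points `bs` -/
noncomputable def differ (bs u v : List ℕ) : Bool :=
  lett D u && lett D v &&
    bs.any fun f => Nat.blt f D.n && walk D.T u f fun a => walk D.T v f fun b => !(Nat.beq a b)

/-- successive images under `w` starting at `cur`, and their labels against `b` -/
noncomputable def chainKey (w : List ℕ) (b : ℕ) : ℕ → List ℕ → List ℕ → Bool
  | _, [], [] => true
  | cur, p :: r, k :: ks => walk D.T w cur (fun e => Nat.beq e p) && Nat.beq (lb D OR b p) k &&
      chainKey w b p r ks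
  | _, _, _ => false

/-- follow the images under `w` as long as the labels fit -/
noncomputable def within (w : List ℕ) (d : ℕ) : List ℕ → ℕ → (List ℕ → Bool) → Bool
  | [], cur, K => K [cur]
  | k :: ks, cur, K => walk D.T w cur fun e =>
      bor (!(Nat.beq (lb D OR d e) k)) (within w d ks e fun O => K (cur :: O))

/-- a possible system of images: the one of a candidate -/
def isImg (cands : List (List ℕ × List ℕ)) (O : List ℕ) : Bool :=
  cands.any fun e => decide (e.2 = O)

/-- the test made at every node in a search -/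
noncomputable def probe (w : List ℕ) (k0 : ℕ) (wk : List ℕ) (cands : List (List ℕ × List ℕ))
    (d : ℕ) : Bool :=
  bor (!(Nat.beq (oid OR d) k0)) (within D OR w d wk d (isImg cands))

/-- the word takes the points to the listed images -/
noncomputable def mapsTo (v : List ℕ) : List ℕ → List ℕ → Bool
  | [], [] => true
  | p :: r, o :: os => walk D.T v p (fun e => Nat.beq e o) && mapsTo v r os
  | _, _ => false

/-- data of a search: first point, its orbit number, the other points and their labels -/
noncomputable def keyOK (wa wa' : List ℕ) (b k0 : ℕ) (rest wk : List ℕ) : Bool :=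
  lett D wa && lett D wa' && Nat.blt b D.n && Nat.beq (oid OR b) k0 && chainKey D OR wa b b rest wk

/-- the test made at every node when a point is pinned -/
noncomputable def pin (bp k0 : ℕ) (ps : List (ℕ × ℕ)) (q : ℕ) : Bool :=
  bor (Nat.beq q bp) (bor (!(Nat.beq (oid OR q) k0))
    (ps.any fun e => !(Nat.beq (lb D OR e.1 q) e.2)))

/-- data of a pinned point -/
noncomputable def pinKey (F : List ℕ) (bp k0 : ℕ) (ps : List (ℕ × ℕ)) : Bool :=
  Nat.blt bp D.n && Nat.beq (oid OR bp) k0 &&
    ps.all fun e => F.contains e.1 && Nat.beq (lb D OR e.1 bp) e.2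

/-- the fixed points of a word are listed -/
noncomputable def fixIn (w l : List ℕ) (c : ℕ) : Bool :=
  walk D.T w c fun e => bor (!(Nat.beq e c)) (l.any fun f => Nat.beq f c)

variable {D OR} {G : Type*} [Group G] {gen : ℕ → G} {H : Subgroup G}

theorem lett_spec {w : List ℕ} (h : lett D w = true) : ∀ g ∈ w, g < D.ng :=
  fun g hg => Data.blt_iff.mp (List.all_eq_true.mp h g hg)

/-- the node to which `x` takes `c` -/
noncomputable def img (M : Model D gen H) (x : G) (c : ℕ) : ℕ :=
  if h : c < D.n then (M.act x ⟨c, h⟩ : ℕ) else c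

section
variable (M : Model D gen H)

theorem img_lt (x : G) {c : ℕ} (h : c < D.n) : img M x c < D.n := by
  rw [img, dif_pos h]; exact Fin.isLt _

theorem img_word {w : List ℕ} (hw : ∀ g ∈ w, g < D.ng) {c : ℕ} (h : c < D.n) :
    img M (ev gen w) c = pathEnd D.T w c := by
  rw [img, dif_pos h]; exact M.act_ev w hw _

theorem img_mul (x y : G) {c : ℕ} (h : c < D.n) : img M (x * y) c = img M x (img M y c) := by
  rw [img, dif_pos h, img, dif_pos (img_lt M y h), map_mul, Equiv.Perm.mul_apply]
  simp only [img, dif_pos h]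

theorem img_one {c : ℕ} (h : c < D.n) : img M (1 : G) c = c := by
  rw [img, dif_pos h, map_one, Equiv.Perm.one_apply]

theorem img_inv {x : G} {c e : ℕ} (h : c < D.n) (he : img M x c = e) : img M x⁻¹ e = c := by
  rw [← he, ← img_mul M _ _ h, inv_mul_cancel, img_one M h]

theorem mem_iff (x : G) : x ∈ H ↔ img M x 0 = 0 := by
  rw [show (x ∈ H ↔ x ∈ fixSub M.act [0]) from (SetLike.ext_iff.mp M.fixSub_zero x).symm, img,
    dif_pos M.tables.pos]
  constructor
  · intro h
    exact congrArg Fin.val (h ⟨0, M.tables.pos⟩ (by simp))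
  · intro h c hc
    obtain rfl : c = ⟨0, M.tables.pos⟩ := Fin.ext (by simpa using hc)
    exact Fin.ext h

end

theorem lbR_succ (f p q : ℕ) : lbR D OR (f + 1) p q =
    Bool.rec (motive := fun _ => ℕ)
      (force (D.PA p) fun e => force (D.T (D.iv (e % 64)) q) fun q' =>
        force (e / 64) fun p' => lbR D OR f p' q')
      (oid OR q) (Nat.beq p 0) := rfl

theorem lbR_spec (M : Model D gen H) : ∀ f p q : ℕ, p < f → p < D.n → q < D.n →
    ∃ a : G, img M a p = 0 ∧ lbR D OR f p q = oid OR (img M a q) := by
  intro f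
  induction f with
  | zero => intro p q h; omega
  | succ f ih =>
    intro p q hf hp hq
    rw [lbR_succ]
    rcases hb : Nat.beq p 0 with _ | _
    · show ∃ a : G, img M a p = 0 ∧ (force (D.PA p) fun e => force (D.T (D.iv (e % 64)) q) fun q' =>
        force (e / 64) fun p' => lbR D OR f p' q') = _
      simp only [force_eq]
      have ht := allRange_spec M.tables.tree p (Nat.zero_le _) (by omega)
      simp only [hb, Bool.false_or, force_eq, Bool.and_eq_true, Data.blt_iff, Nat.beq_eq] at ht
      obtain ⟨⟨hpar, hg⟩, hT⟩ := ht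
      obtain ⟨-, hback, hiv, -⟩ := M.tables.closed hg (show D.PA p / 64 < D.n by omega)
      rw [hT] at hback
      obtain ⟨a, ha, hlb⟩ := ih (D.PA p / 64) (D.T (D.iv (D.PA p % 64)) q) (by omega) (by omega)
        (M.tables.closed hiv hq).1
      have hw : ∀ g ∈ [D.iv (D.PA p % 64)], g < D.ng := by simpa using hiv
      refine ⟨a * ev gen [D.iv (D.PA p % 64)], ?_, ?_⟩
      · rw [img_mul M _ _ hp, img_word M hw hp]
        show img M a (D.T (D.iv (D.PA p % 64)) p) = 0
        rw [hback]; exact ha
      · rw [hlb, img_mul M _ _ hq, img_word M hw hq]; rfl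
    · show ∃ a : G, img M a p = 0 ∧ oid OR q = _
      rw [Nat.beq_eq] at hb
      exact ⟨1, by rw [img_one M hp, hb], by rw [img_one M hq]⟩

/-- the facts about the table used by the searches -/
structure Ctx (M : Model D gen H) (OR : ℕ → ℕ) (bs : List ℕ) : Prop where
  inv : ∀ h ∈ H, ∀ c < D.n, oid OR (img M h c) = oid OR c
  lt : ∀ b ∈ bs, b < D.n
  trivial : ∀ z : G, (∀ b ∈ bs, img M z b = b) → z = 1

variable {M : Model D gen H} {bs : List ℕ}

theorem lb_img (C : Ctx M OR bs) (g : G) {p q : ℕ} (hp : p < D.n) (hq : q < D.n) :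
    lb D OR (img M g p) (img M g q) = lb D OR p q := by
  obtain ⟨a, ha, e1⟩ := lbR_spec (OR := OR) M D.n p q hp hp hq
  obtain ⟨b, hb, e2⟩ := lbR_spec (OR := OR) M D.n _ _ (img_lt M g hp) (img_lt M g hp) (img_lt M g hq)
  rw [lb, lb, e1, e2]
  have hmem : b * g * a⁻¹ ∈ H := by
    rw [mem_iff M, img_mul M _ _ M.tables.pos, img_inv M hp ha, img_mul M _ _ hp]
    exact hb
  have key := C.inv _ hmem (img M a q) (img_lt M a hq)
  rw [img_mul M _ _ (img_lt M a hq), img_inv M hq rfl, img_mul M _ _ hq] at key
  exact key

theorem eq_of_bs (C : Ctx M OR bs) {x y : G} (h : ∀ b ∈ bs, img M x b = img M y b) : x = y := by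
  refine (inv_mul_eq_one.mp (C.trivial (y⁻¹ * x) fun b hb => ?_)).symm
  rw [img_mul M _ _ (C.lt b hb)]
  exact img_inv M (C.lt b hb) (h b hb).symm

theorem eq_of_agree (C : Ctx M OR bs) {u v : List ℕ} (h : agree D bs u v = true) :
    ev gen u = ev gen v := by
  simp only [agree, Bool.and_eq_true, List.all_eq_true, walk_eq, Nat.beq_eq] at h
  refine eq_of_bs C fun b hb => ?_
  rw [img_word M (lett_spec h.1.1) (C.lt b hb), img_word M (lett_spec h.1.2) (C.lt b hb)]
  exact h.2 b hb

theorem ne_of_differ (M : Model D gen H) {u v : List ℕ} (h : differ D bs u v = true) :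
    ev gen u ≠ ev gen v := by
  simp only [differ, Bool.and_eq_true, List.any_eq_true, walk_eq, Data.blt_iff,
    Bool.not_eq_true'] at h
  obtain ⟨⟨hu, hv⟩, f, -, hf, hne⟩ := h
  intro e
  have h2 : img M (ev gen u) f = img M (ev gen v) f := by rw [e]
  rw [img_word M (lett_spec hu) hf, img_word M (lett_spec hv) hf] at h2
  rw [h2, Nat.beq_refl] at hne
  exact Bool.noConfusion hne

theorem chainKey_lt (M : Model D gen H) {w : List ℕ} (hw : ∀ g ∈ w, g < D.ng) {b : ℕ} :
    ∀ (rest : List ℕ) (cur : ℕ) (wk : List ℕ), cur < D.n →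
      chainKey D OR w b cur rest wk = true → ∀ p ∈ cur :: rest, p < D.n := by
  intro rest
  induction rest with
  | nil => intro cur wk hc _ p hp; simp at hp; exact hp ▸ hc
  | cons a r ih =>
    intro cur wk hc h p hp
    cases wk with
    | nil => simp [chainKey] at h
    | cons k ks =>
      simp only [chainKey, Bool.and_eq_true, walk_eq, Nat.beq_eq] at h
      rcases List.mem_cons.mp hp with rfl | hp
      · exact hc
      · exact ih a ks (h.1.1 ▸ pathEnd_lt M.tables w hw hc) h.2 p hp

theorem within_img (C : Ctx M OR bs) {g : G} {wa wa' : List ℕ} (ha : ∀ i ∈ wa, i < D.ng)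
    (ha' : ∀ i ∈ wa', i < D.ng) (hg : g * ev gen wa = ev gen wa' * g) {b : ℕ} (hb : b < D.n) :
    ∀ (rest : List ℕ) (cur : ℕ) (wk : List ℕ) (K : List ℕ → Bool), cur < D.n →
      chainKey D OR wa b cur rest wk = true →
      within D OR wa' (img M g b) wk (img M g cur) K = true →
      K ((cur :: rest).map (img M g)) = true := by
  intro rest
  induction rest with
  | nil =>
    intro cur wk K _ hk h
    cases wk with
    | nil => simpa [within] using h
    | cons k ks => simp [chainKey] at hk
  | cons a r ih =>
    intro cur wk K hc hk h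
    cases wk with
    | nil => simp [chainKey] at hk
    | cons k ks =>
      simp only [chainKey, Bool.and_eq_true, walk_eq, Nat.beq_eq] at hk
      obtain ⟨⟨hstep, hlab⟩, hrest⟩ := hk
      have han : a < D.n := hstep ▸ pathEnd_lt M.tables wa ha hc
      have e : pathEnd D.T wa' (img M g cur) = img M g a := by
        rw [← img_word M ha' (img_lt M g hc), ← img_mul M _ _ hc, ← hg, img_mul M _ _ hc,
          img_word M ha hc, hstep]
      simp only [within, walk_eq, e, bor_iff, Bool.not_eq_true'] at h
      rcases h with h | h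
      · rw [lb_img C g hb han, hlab, Nat.beq_refl] at h
        exact Bool.noConfusion h
      · exact ih a ks (fun O => K (img M g cur :: O)) han hrest h

/-- the images of the points of a search are among the listed ones -/
theorem img_mem (C : Ctx M OR bs) {wa wa' : List ℕ} {b k0 : ℕ} {rest wk : List ℕ}
    {cands : List (List ℕ × List ℕ)} (hk : keyOK D OR wa wa' b k0 rest wk = true)
    (hs : ∀ d < D.n, probe D OR wa' k0 wk cands d = true) {g : G} (hgH : g ∈ H)
    (hg : g * ev gen wa = ev gen wa' * g) :
    ∃ e ∈ cands, e.2 = (b :: rest).map (img M g) := by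
  simp only [keyOK, Bool.and_eq_true, Data.blt_iff, Nat.beq_eq] at hk
  obtain ⟨⟨⟨⟨ha, ha'⟩, hb⟩, hk0⟩, hch⟩ := hk
  have h1 := hs _ (img_lt M g hb)
  simp only [probe, bor_iff, Bool.not_eq_true'] at h1
  rcases h1 with h1 | h1
  · rw [C.inv g hgH b hb, hk0, Nat.beq_refl] at h1
    exact Bool.noConfusion h1
  · have h2 := within_img C (lett_spec ha) (lett_spec ha') hg hb rest b wk _ hb hch h1
    simpa [isImg] using h2

theorem mapsTo_spec (M : Model D gen H) {v : List ℕ} (hv : ∀ g ∈ v, g < D.ng) :
    ∀ (l o : List ℕ), (∀ p ∈ l, p < D.n) → mapsTo D v l o = true →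
      l.map (img M (ev gen v)) = o := by
  intro l
  induction l with
  | nil => intro o _ h; cases o with
    | nil => rfl
    | cons a o => simp [mapsTo] at h
  | cons p r ih =>
    intro o hl h
    cases o with
    | nil => simp [mapsTo] at h
    | cons a o =>
      simp only [mapsTo, Bool.and_eq_true, walk_eq, Nat.beq_eq] at h
      rw [List.map_cons, ih o (fun x hx => hl x (by simp [hx])) h.2,
        img_word M hv (hl p (by simp)), h.1]

/-- a point is pinned by fixed points -/
theorem pin_img (C : Ctx M OR bs) {F : List ℕ} {bp k0 : ℕ} {ps : List (ℕ × ℕ)}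
    (hk : pinKey D OR F bp k0 ps = true) (hp : ∀ q < D.n, pin D OR bp k0 ps q = true) {z : G}
    (hzH : z ∈ H) (hF : ∀ f ∈ F, f < D.n ∧ img M z f = f) : img M z bp = bp := by
  simp only [pinKey, Bool.and_eq_true, Data.blt_iff, Nat.beq_eq, List.all_eq_true,
    List.contains_iff_mem] at hk
  obtain ⟨⟨hb, hk0⟩, hps⟩ := hk
  have h := hp _ (img_lt M z hb)
  simp only [pin, bor_iff, Nat.beq_eq, Bool.not_eq_true', List.any_eq_true] at h
  rcases h with h | h | ⟨e, he, h⟩
  · exact h
  · rw [C.inv z hzH bp hb, hk0, Nat.beq_refl] at h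
    exact Bool.noConfusion h
  · obtain ⟨hef, hlab⟩ := hps e he
    obtain ⟨hlt, hfix⟩ := hF _ hef
    have h2 := lb_img C z hlt hb
    rw [hfix, hlab] at h2
    rw [h2, Nat.beq_refl] at h
    exact Bool.noConfusion h

/-- an element commuting with `w` fixes the whole chain of a fixed point -/
theorem chain_fixed (M : Model D gen H) {w : List ℕ} (hw : ∀ g ∈ w, g < D.ng) {z : G}
    (hz : z * ev gen w = ev gen w * z) {b : ℕ} :
    ∀ (rest : List ℕ) (cur : ℕ) (wk : List ℕ), cur < D.n → img M z cur = cur →
      chainKey D OR w b cur rest wk = true → ∀ p ∈ cur :: rest, p < D.n ∧ img M z p = p := by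
  intro rest
  induction rest with
  | nil => intro cur wk hc hf _ p hp; simp at hp; exact hp ▸ ⟨hc, hf⟩
  | cons a r ih =>
    intro cur wk hc hf h p hp
    cases wk with
    | nil => simp [chainKey] at h
    | cons k ks =>
      simp only [chainKey, Bool.and_eq_true, walk_eq, Nat.beq_eq] at h
      rcases List.mem_cons.mp hp with rfl | hp
      · exact ⟨hc, hf⟩
      · have hfa : img M z a = a := by
          rw [← h.1.1]
          conv_lhs => rw [← img_word M hw hc, ← img_mul M _ _ hc, hz, img_mul M _ _ hc, hf,
            img_word M hw hc]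
        exact ih a ks (h.1.1 ▸ pathEnd_lt M.tables w hw hc) hfa h.2 p hp

/-- a fixed node of a checked word is listed -/
theorem fixIn_mem (M : Model D gen H) {w l : List ℕ} (hs : ∀ c < D.n, fixIn D w l c = true)
    (hw : ∀ g ∈ w, g < D.ng) {c : ℕ} (hc : c < D.n) (h : img M (ev gen w) c = c) : c ∈ l := by
  have h1 := hs c hc
  simp only [fixIn, walk_eq, bor_iff, Bool.not_eq_true', List.any_eq_true, Nat.beq_eq] at h1
  rw [img_word M hw hc] at h
  rcases h1 with h1 | ⟨f, hf, rfl⟩
  · rw [h, Nat.beq_refl] at h1
    exact Bool.noConfusion h1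
  · exact hf

end ONOut
end H62
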