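import Mathlib
import Cfsg.Agent.H93.ON.Tab.Data
import Cfsg.Agent.H93.ON.Orb.Data
import Cfsg.Agent.H93.CI.Fix
import Cfsg.Agent.H62.ONOut.Search
import Cfsg.Agent.H62.ONOut.Data

/-!
Splitting of a check over all nodes of the O'Nan table into ten pieces.
-/

set_option autoImplicit false

namespace H62
namespace ONOut

open H93 H93.CosetI

theorem of_chunks {f : ℕ → Bool} (h0 : allRange 0 12276 f = true)
    (h1 : allRange 12276 12276 f = true) (h2 : allRange 24552 12276 f = true)
    (h3 : allRange 36828 12276 f = true) (h4 : allRange 49104 12276 f = true)
    (h5 : allRange 61380 12276 f = true) (h6 : allRange 73656 12276 f = true)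
    (h7 : allRange 85932 12276 f = true) (h8 : allRange 98208 12276 f = true)
    (h9 : allRange 110484 12276 f = true) : ∀ c < 122760, f c = true := fun c hc =>
  allRange_spec (allRange_glue (allRange_glue (allRange_glue (allRange_glue (allRange_glue
    (allRange_glue (allRange_glue (allRange_glue (allRange_glue h0 h1) h2) h3) h4) h5) h6) h7) h8)
    h9) c (Nat.zero_le c) (by omega)

namespace Cert

/-- the test at a node for the fixed points of the element of order 19 -/
noncomputable def scanX : ℕ → Bool := fixIn ON.Tab.data wx [0]

/-- the test at a node for the fixed points of the element of order 6 -/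
noncomputable def scanY : ℕ → Bool := fixIn ON.Tab.data wy fixY

/-- the test at a node for the centraliser of the element of order 19 -/
noncomputable def probeX : ℕ → Bool := probe ON.Tab.data ON.Orb.orb wx 3 xLab xCands

/-- the test at a node for pinning the third point by the first orbit -/
noncomputable def pinX : ℕ → Bool := pin ON.Tab.data ON.Orb.orb 17611 2 xPins

/-- the test at a node for the centraliser of the element of order 6 -/
noncomputable def probeY : ℕ → Bool := probe ON.Tab.data ON.Orb.orb wy 4 yLab yCands

/-- the test at a node for pinning the second point -/
noncomputable def pinY1 : ℕ → Bool := pin ON.Tab.data ON.Orb.orb 15 3 yPins1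

/-- the test at a node for pinning the third point -/
noncomputable def pinY2 : ℕ → Bool := pin ON.Tab.data ON.Orb.orb 17611 2 yPins2

/-- the test at a node for a fixed point out of reach of the centraliser -/
noncomputable def probeN (i : ℕ) : ℕ → Bool :=
  probe ON.Tab.data ON.Orb.orb (away.getD i (0, [], [])).2.2 4 nLab []

end Cert

end ONOut
end H62
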