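import Mathlib
import Cfsg.Agent.H95.OutCrit

/-!
A criterion for two classes of automorphisms from the centralisers of an element of order 19
and of an element inverting into its eighth power.
-/

set_option autoImplicit false

namespace H62
namespace ONOut

variable {G : Type*} [Group G] [Finite G]

theorem out_card_two (x y e e' : G) (hsq : ¬ 19 ^ 2 ∣ Nat.card G) (hx : orderOf x = 19)
    (hyx : y * x * y⁻¹ = x ^ 8) (hCx : ∀ g : G, g * x = x * g → ∃ a : ℕ, g = x ^ a)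
    (hgen : Subgroup.closure ({x, y, e} : Set G) = ⊤)
    (htest : ∀ (ψ : MulAut G) (k : ℕ), (k = 1 ∨ k = 2 ∨ k = 4) → ψ x = x ^ k → ψ y = y →
      k = 1 ∧ (ψ e = e ∨ ψ e = e'))
    (φ₀ : MulAut G) (h0x : φ₀ x = x) (h0y : φ₀ y = y) (h0e : φ₀ e = e') (hne : e' ≠ e) :
    Nat.card (Cfsg.Out G) = 2 := by
  have hr1 : ((8 : ℕ) : ZMod 19) ≠ 1 := by decide
  have h7 : ∀ t : ZMod 19, 8 * t = t → t = 0 := by decide
  haveI : Fact (Nat.Prime 19) := ⟨by decide⟩
  have hyxa : ∀ a : ℕ, y * x ^ a = x ^ (8 * a) * y := fun a => by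
    rw [pow_mul, ← hyx, conj_pow, inv_mul_cancel_right]
  have hext : ∀ ψ ψ' : MulAut G, ψ x = ψ' x → ψ y = ψ' y → ψ e = ψ' e → ψ = ψ' := by
    intro ψ ψ' e1 e2 e3
    refine MulEquiv.ext fun z => ?_
    have hz : z ∈ Subgroup.closure ({x, y, e} : Set G) := hgen ▸ Subgroup.mem_top z
    refine MonoidHom.eqOn_closure (f := ψ.toMonoidHom) (g := ψ'.toMonoidHom) ?_ hz
    intro w hw
    rcases hw with rfl | rfl | rfl
    · exact e1
    · exact e2
    · exact e3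
  have hout : φ₀ ∉ Cfsg.Inn G := by
    rintro ⟨g, hg⟩
    have hgx : g * x * g⁻¹ = x := by
      conv_rhs => rw [← h0x, ← hg]
      rfl
    have hgy : g * y * g⁻¹ = y := by
      conv_rhs => rw [← h0y, ← hg]
      rfl
    have hge : g * e * g⁻¹ = e' := by
      rw [← h0e, ← hg]
      rfl
    obtain ⟨a, rfl⟩ := hCx g (mul_inv_eq_iff_eq_mul.mp hgx)
    have h1 : x ^ (8 * a) = x ^ a := by
      apply mul_right_cancel (b := y)
      rw [← hyxa]
      exact (mul_inv_eq_iff_eq_mul.mp hgy).symm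
    have h2 := H95.zmod_of_pow_eq hx h1
    have h3 : (a : ZMod 19) = 0 := by
      push_cast at h2
      exact h7 _ h2
    have h4 : x ^ a = 1 := by
      rw [← pow_zero x]
      exact H95.pow_eq_of_zmod hx (by rw [h3, Nat.cast_zero])
    rw [h4, one_mul, inv_one, mul_one] at hge
    exact hne hge.symm
  have key : ∀ φ : MulAut G, φ ∈ Cfsg.Inn G ∨ φ₀⁻¹ * φ ∈ Cfsg.Inn G := by
    intro φ
    obtain ⟨g, hg⟩ := H95.exists_conj_zpowers hsq
      (by rw [MulEquiv.orderOf_eq, hx] : orderOf (φ x) = 19) hx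
    obtain ⟨k, hk⟩ := mem_powers_iff_mem_zpowers.mpr hg
    set φ₁ : MulAut G := MulAut.conj g * φ with hφ₁
    have h1x : φ₁ x = x ^ k := hk.symm
    have hk0 : (k : ZMod 19) ≠ 0 := fun h0 => by
      have h' : φ₁ x = 1 := by
        rw [h1x, ← pow_zero x]; exact H95.pow_eq_of_zmod hx (by rw [h0, Nat.cast_zero])
      have hx1 : x = 1 := φ₁.injective (h'.trans (map_one φ₁).symm)
      rw [hx1, orderOf_one] at hx
      exact absurd hx (by decide)
    have h1y : φ₁ y * x * (φ₁ y)⁻¹ = x ^ 8 := by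
      have hxk : x = (x ^ k) ^ ((k : ZMod 19)⁻¹).val := by
        conv_lhs => rw [← pow_one x]
        rw [← pow_mul]
        refine H95.pow_eq_of_zmod hx ?_
        rw [Nat.cast_one, Nat.cast_mul, ZMod.natCast_zmod_val, mul_inv_cancel₀ hk0]
      have e1 : φ₁ y * x ^ k * (φ₁ y)⁻¹ = x ^ (k * 8) := by
        rw [← h1x, ← map_inv, ← map_mul, ← map_mul, hyx, map_pow, h1x, ← pow_mul]
      conv_lhs => rw [hxk, ← conj_pow, e1, ← pow_mul]
      refine H95.pow_eq_of_zmod hx ?_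
      rw [Nat.cast_mul, Nat.cast_mul, ZMod.natCast_zmod_val, mul_comm (k : ZMod 19), mul_assoc,
        mul_inv_cancel₀ hk0, mul_one]
    obtain ⟨a, ha⟩ := hCx (y⁻¹ * φ₁ y) (by
      have e1 : φ₁ y * x = y * x * y⁻¹ * φ₁ y := by
        rw [hyx]; exact mul_inv_eq_iff_eq_mul.mp h1y
      rw [mul_assoc, e1]
      group)
    obtain ⟨b, hb⟩ := H95.conj_adjust hx hyx hr1 (8 * a)
    rw [← hyxa, ← ha, mul_inv_cancel_left] at hb
    set φ₂ : MulAut G := MulAut.conj (x ^ b) * φ₁ with hφ₂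
    have h2x : φ₂ x = x ^ k := by
      show x ^ b * φ₁ x * (x ^ b)⁻¹ = x ^ k
      rw [h1x, ← pow_add, mul_inv_eq_iff_eq_mul, ← pow_add, add_comm]
    have h2y : φ₂ y = y := hb
    have hcls : ∀ j < 19, j ≠ 0 → ∃ c < 6,
        8 ^ c * j % 19 = 1 ∨ 8 ^ c * j % 19 = 2 ∨ 8 ^ c * j % 19 = 4 := by decide
    obtain ⟨c, -, hc⟩ := hcls (k % 19) (Nat.mod_lt _ (by decide)) (fun h => hk0 (by
      rw [← ZMod.natCast_mod k 19, h, Nat.cast_zero]))
    set ψ : MulAut G := MulAut.conj (y ^ c) * φ₂ with hψ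
    obtain ⟨k', hk', h3x⟩ : ∃ k', (k' = 1 ∨ k' = 2 ∨ k' = 4) ∧ ψ x = x ^ k' := by
      refine ⟨8 ^ c * (k % 19) % 19, hc, ?_⟩
      show y ^ c * φ₂ x * (y ^ c)⁻¹ = _
      rw [h2x, H95.conj_pow_iter hyx]
      refine H95.pow_eq_of_zmod hx ?_
      rw [ZMod.natCast_mod, Nat.cast_mul, Nat.cast_mul, ZMod.natCast_mod]
    have h3y : ψ y = y := by
      show y ^ c * φ₂ y * (y ^ c)⁻¹ = y
      rw [h2y, mul_inv_eq_iff_eq_mul]
      exact (Commute.pow_self y c).eq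
    have hin : φ * ψ⁻¹ ∈ Cfsg.Inn G := by
      have e1 : φ * ψ⁻¹ =
          (MulAut.conj g)⁻¹ * (MulAut.conj (x ^ b))⁻¹ * (MulAut.conj (y ^ c))⁻¹ := by
        rw [hψ, hφ₂, hφ₁]; group
      rw [e1]
      exact mul_mem (mul_mem (inv_mem ⟨g, rfl⟩) (inv_mem ⟨_, rfl⟩)) (inv_mem ⟨_, rfl⟩)
    obtain ⟨rfl, he | he⟩ := htest ψ k' hk' h3x h3y
    · left
      have h1 : ψ = 1 := hext ψ 1 (h3x.trans (pow_one x)) h3y he
      rwa [h1, inv_one, mul_one] at hin
    · right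
      have h1 : ψ = φ₀ := hext ψ φ₀ (by rw [h3x, pow_one, h0x]) (h3y.trans h0y.symm)
        (he.trans h0e.symm)
      rw [h1] at hin
      have := (Cfsg.innNormal G).conj_mem _ hin φ₀⁻¹
      simpa [mul_assoc] using this
  rw [Nat.card_eq_two_iff' (1 : Cfsg.Out G)]
  refine ⟨(φ₀ : Cfsg.Out G), fun h => hout ((QuotientGroup.eq_one_iff φ₀).mp h), fun z hz => ?_⟩
  obtain ⟨φ, rfl⟩ := QuotientGroup.mk_surjective z
  rcases key φ with h | h
  · exact absurd ((QuotientGroup.eq_one_iff φ).mpr h) hz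
  · exact (QuotientGroup.eq.mpr h).symm

end ONOut
end H62
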