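import Mathlib
import Cfsg.Agent.H62.ONOut.Base

/-!
Checks over all nodes: ScanX (generated checks).
-/

set_option autoImplicit false
set_option maxRecDepth 100000
set_option linter.all false
set_option Elab.async false

namespace H62
namespace ONOut
namespace Cert

open H93 H93.CosetI

noncomputable section

theorem scanX_0 : allRange 0 12276 scanX = true := by decide +kernel

theorem scanX_1 : allRange 12276 12276 scanX = true := by decide +kernel

theorem scanX_2 : allRange 24552 12276 scanX = true := by decide +kernel

theorem scanX_3 : allRange 36828 12276 scanX = true := by decide +kernel

theorem scanX_4 : allRange 49104 12276 scanX = true := by decide +kernel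

theorem scanX_5 : allRange 61380 12276 scanX = true := by decide +kernel

theorem scanX_6 : allRange 73656 12276 scanX = true := by decide +kernel

theorem scanX_7 : allRange 85932 12276 scanX = true := by decide +kernel

theorem scanX_8 : allRange 98208 12276 scanX = true := by decide +kernel

theorem scanX_9 : allRange 110484 12276 scanX = true := by decide +kernel

theorem scanX_all : ∀ c < 122760, scanX c = true :=
  of_chunks scanX_0 scanX_1 scanX_2 scanX_3 scanX_4 scanX_5 scanX_6 scanX_7 scanX_8 scanX_9

end

end Cert
end ONOut
end H62
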