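import Mathlib
import Cfsg.Agent.H62.ONOut.Base

/-!
Checks over all nodes: ScanY (generated checks).
-/

set_option autoImplicit false
set_option maxRecDepth 100000
set_option linter.all false
set_option Elab.async false

namespace H62
namespace ONOut
namespace Cert

open H93 H93.CosetI

noncomputable section

theorem scanY_0 : allRange 0 12276 scanY = true := by decide +kernel

theorem scanY_1 : allRange 12276 12276 scanY = true := by decide +kernel

theorem scanY_2 : allRange 24552 12276 scanY = true := by decide +kernel

theorem scanY_3 : allRange 36828 12276 scanY = true := by decide +kernel

theorem scanY_4 : allRange 49104 12276 scanY = true := by decide +kernel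

theorem scanY_5 : allRange 61380 12276 scanY = true := by decide +kernel

theorem scanY_6 : allRange 73656 12276 scanY = true := by decide +kernel

theorem scanY_7 : allRange 85932 12276 scanY = true := by decide +kernel

theorem scanY_8 : allRange 98208 12276 scanY = true := by decide +kernel

theorem scanY_9 : allRange 110484 12276 scanY = true := by decide +kernel

theorem scanY_all : ∀ c < 122760, scanY c = true :=
  of_chunks scanY_0 scanY_1 scanY_2 scanY_3 scanY_4 scanY_5 scanY_6 scanY_7 scanY_8 scanY_9

end

end Cert
end ONOut
end H62
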