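import Mathlib
import Cfsg.Agent.H62.ONOut.Base

/-!
Checks over all nodes: SrchN (generated checks).
-/

set_option autoImplicit false
set_option maxRecDepth 100000
set_option linter.all false
set_option Elab.async false

namespace H62
namespace ONOut
namespace Cert

open H93 H93.CosetI

noncomputable section

theorem probeN0_0 : allRange 0 12276 (probeN 0) = true := by decide +kernel

theorem probeN0_1 : allRange 12276 12276 (probeN 0) = true := by decide +kernel

theorem probeN0_2 : allRange 24552 12276 (probeN 0) = true := by decide +kernel

theorem probeN0_3 : allRange 36828 12276 (probeN 0) = true := by decide +kernel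

theorem probeN0_4 : allRange 49104 12276 (probeN 0) = true := by decide +kernel

theorem probeN0_5 : allRange 61380 12276 (probeN 0) = true := by decide +kernel

theorem probeN0_6 : allRange 73656 12276 (probeN 0) = true := by decide +kernel

theorem probeN0_7 : allRange 85932 12276 (probeN 0) = true := by decide +kernel

theorem probeN0_8 : allRange 98208 12276 (probeN 0) = true := by decide +kernel

theorem probeN0_9 : allRange 110484 12276 (probeN 0) = true := by decide +kernel

theorem probeN0_all : ∀ c < 122760, (probeN 0) c = true :=
  of_chunks probeN0_0 probeN0_1 probeN0_2 probeN0_3 probeN0_4 probeN0_5 probeN0_6 probeN0_7 probeN0_8 probeN0_9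

theorem probeN1_0 : allRange 0 12276 (probeN 1) = true := by decide +kernel

theorem probeN1_1 : allRange 12276 12276 (probeN 1) = true := by decide +kernel

theorem probeN1_2 : allRange 24552 12276 (probeN 1) = true := by decide +kernel

theorem probeN1_3 : allRange 36828 12276 (probeN 1) = true := by decide +kernel

theorem probeN1_4 : allRange 49104 12276 (probeN 1) = true := by decide +kernel

theorem probeN1_5 : allRange 61380 12276 (probeN 1) = true := by decide +kernel

theorem probeN1_6 : allRange 73656 12276 (probeN 1) = true := by decide +kernel

theorem probeN1_7 : allRange 85932 12276 (probeN 1) = true := by decide +kernel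

theorem probeN1_8 : allRange 98208 12276 (probeN 1) = true := by decide +kernel

theorem probeN1_9 : allRange 110484 12276 (probeN 1) = true := by decide +kernel

theorem probeN1_all : ∀ c < 122760, (probeN 1) c = true :=
  of_chunks probeN1_0 probeN1_1 probeN1_2 probeN1_3 probeN1_4 probeN1_5 probeN1_6 probeN1_7 probeN1_8 probeN1_9

theorem probeN2_0 : allRange 0 12276 (probeN 2) = true := by decide +kernel

theorem probeN2_1 : allRange 12276 12276 (probeN 2) = true := by decide +kernel

theorem probeN2_2 : allRange 24552 12276 (probeN 2) = true := by decide +kernel

theorem probeN2_3 : allRange 36828 12276 (probeN 2) = true := by decide +kernel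

theorem probeN2_4 : allRange 49104 12276 (probeN 2) = true := by decide +kernel

theorem probeN2_5 : allRange 61380 12276 (probeN 2) = true := by decide +kernel

theorem probeN2_6 : allRange 73656 12276 (probeN 2) = true := by decide +kernel

theorem probeN2_7 : allRange 85932 12276 (probeN 2) = true := by decide +kernel

theorem probeN2_8 : allRange 98208 12276 (probeN 2) = true := by decide +kernel

theorem probeN2_9 : allRange 110484 12276 (probeN 2) = true := by decide +kernel

theorem probeN2_all : ∀ c < 122760, (probeN 2) c = true :=
  of_chunks probeN2_0 probeN2_1 probeN2_2 probeN2_3 probeN2_4 probeN2_5 probeN2_6 probeN2_7 probeN2_8 probeN2_9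

end

end Cert
end ONOut
end H62
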