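import Mathlib
import Cfsg.Agent.H62.ONOut.Base

/-!
Checks over all nodes: SrchX (generated checks).
-/

set_option autoImplicit false
set_option maxRecDepth 100000
set_option linter.all false
set_option Elab.async false

namespace H62
namespace ONOut
namespace Cert

open H93 H93.CosetI

noncomputable section

theorem probeX_0 : allRange 0 12276 probeX = true := by decide +kernel

theorem probeX_1 : allRange 12276 12276 probeX = true := by decide +kernel

theorem probeX_2 : allRange 24552 12276 probeX = true := by decide +kernel

theorem probeX_3 : allRange 36828 12276 probeX = true := by decide +kernel

theorem probeX_4 : allRange 49104 12276 probeX = true := by decide +kernel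

theorem probeX_5 : allRange 61380 12276 probeX = true := by decide +kernel

theorem probeX_6 : allRange 73656 12276 probeX = true := by decide +kernel

theorem probeX_7 : allRange 85932 12276 probeX = true := by decide +kernel

theorem probeX_8 : allRange 98208 12276 probeX = true := by decide +kernel

theorem probeX_9 : allRange 110484 12276 probeX = true := by decide +kernel

theorem probeX_all : ∀ c < 122760, probeX c = true :=
  of_chunks probeX_0 probeX_1 probeX_2 probeX_3 probeX_4 probeX_5 probeX_6 probeX_7 probeX_8 probeX_9

theorem pinX_0 : allRange 0 12276 pinX = true := by decide +kernel

theorem pinX_1 : allRange 12276 12276 pinX = true := by decide +kernel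

theorem pinX_2 : allRange 24552 12276 pinX = true := by decide +kernel

theorem pinX_3 : allRange 36828 12276 pinX = true := by decide +kernel

theorem pinX_4 : allRange 49104 12276 pinX = true := by decide +kernel

theorem pinX_5 : allRange 61380 12276 pinX = true := by decide +kernel

theorem pinX_6 : allRange 73656 12276 pinX = true := by decide +kernel

theorem pinX_7 : allRange 85932 12276 pinX = true := by decide +kernel

theorem pinX_8 : allRange 98208 12276 pinX = true := by decide +kernel

theorem pinX_9 : allRange 110484 12276 pinX = true := by decide +kernel

theorem pinX_all : ∀ c < 122760, pinX c = true :=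
  of_chunks pinX_0 pinX_1 pinX_2 pinX_3 pinX_4 pinX_5 pinX_6 pinX_7 pinX_8 pinX_9

end

end Cert
end ONOut
end H62
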