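import Mathlib
import Cfsg.Agent.H62.ONOut.Base

/-!
Checks over all nodes: SrchY (generated checks).
-/

set_option autoImplicit false
set_option maxRecDepth 100000
set_option linter.all false
set_option Elab.async false

namespace H62
namespace ONOut
namespace Cert

open H93 H93.CosetI

noncomputable section

theorem probeY_0 : allRange 0 12276 probeY = true := by decide +kernel

theorem probeY_1 : allRange 12276 12276 probeY = true := by decide +kernel

theorem probeY_2 : allRange 24552 12276 probeY = true := by decide +kernel

theorem probeY_3 : allRange 36828 12276 probeY = true := by decide +kernel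

theorem probeY_4 : allRange 49104 12276 probeY = true := by decide +kernel

theorem probeY_5 : allRange 61380 12276 probeY = true := by decide +kernel

theorem probeY_6 : allRange 73656 12276 probeY = true := by decide +kernel

theorem probeY_7 : allRange 85932 12276 probeY = true := by decide +kernel

theorem probeY_8 : allRange 98208 12276 probeY = true := by decide +kernel

theorem probeY_9 : allRange 110484 12276 probeY = true := by decide +kernel

theorem probeY_all : ∀ c < 122760, probeY c = true :=
  of_chunks probeY_0 probeY_1 probeY_2 probeY_3 probeY_4 probeY_5 probeY_6 probeY_7 probeY_8 probeY_9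

theorem pinY1_0 : allRange 0 12276 pinY1 = true := by decide +kernel

theorem pinY1_1 : allRange 12276 12276 pinY1 = true := by decide +kernel

theorem pinY1_2 : allRange 24552 12276 pinY1 = true := by decide +kernel

theorem pinY1_3 : allRange 36828 12276 pinY1 = true := by decide +kernel

theorem pinY1_4 : allRange 49104 12276 pinY1 = true := by decide +kernel

theorem pinY1_5 : allRange 61380 12276 pinY1 = true := by decide +kernel

theorem pinY1_6 : allRange 73656 12276 pinY1 = true := by decide +kernel

theorem pinY1_7 : allRange 85932 12276 pinY1 = true := by decide +kernel

theorem pinY1_8 : allRange 98208 12276 pinY1 = true := by decide +kernel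

theorem pinY1_9 : allRange 110484 12276 pinY1 = true := by decide +kernel

theorem pinY1_all : ∀ c < 122760, pinY1 c = true :=
  of_chunks pinY1_0 pinY1_1 pinY1_2 pinY1_3 pinY1_4 pinY1_5 pinY1_6 pinY1_7 pinY1_8 pinY1_9

theorem pinY2_0 : allRange 0 12276 pinY2 = true := by decide +kernel

theorem pinY2_1 : allRange 12276 12276 pinY2 = true := by decide +kernel

theorem pinY2_2 : allRange 24552 12276 pinY2 = true := by decide +kernel

theorem pinY2_3 : allRange 36828 12276 pinY2 = true := by decide +kernel

theorem pinY2_4 : allRange 49104 12276 pinY2 = true := by decide +kernel

theorem pinY2_5 : allRange 61380 12276 pinY2 = true := by decide +kernel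

theorem pinY2_6 : allRange 73656 12276 pinY2 = true := by decide +kernel

theorem pinY2_7 : allRange 85932 12276 pinY2 = true := by decide +kernel

theorem pinY2_8 : allRange 98208 12276 pinY2 = true := by decide +kernel

theorem pinY2_9 : allRange 110484 12276 pinY2 = true := by decide +kernel

theorem pinY2_all : ∀ c < 122760, pinY2 c = true :=
  of_chunks pinY2_0 pinY2_1 pinY2_2 pinY2_3 pinY2_4 pinY2_5 pinY2_6 pinY2_7 pinY2_8 pinY2_9

end

end Cert
end ONOut
end H62
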