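import Mathlib
import Cfsg.Prelude.Def_Spor_ON
import Cfsg.Agent.H93.CI.Pres
import Cfsg.Agent.H93.ON.Fit
import Cfsg.Agent.H62.ONOut.Base

/-!
The small checks of the certificate for the automorphisms of the O'Nan group.
-/

set_option autoImplicit false
set_option maxRecDepth 100000
set_option linter.all false

namespace H62
namespace ONOut
namespace Cert

open H93 H93.CosetI

/-- letters `0, 1, 2` to three words -/
def sub3 (a b c : List ℕ) (j : ℕ) : List ℕ := [a, b, c].getD j []

def gwf (g : ℕ) : List ℕ := gw.getD g []

def vf (g : ℕ) : List ℕ := vw.getD g []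

/-- the centraliser of the element of order 6 as a list of words -/
def cList : List (List ℕ) :=
  (reach.map Prod.snd).flatMap fun h => (yCands.map Prod.fst).map fun u => u ++ h

/-- a relation of the three elements violated after substitution -/
noncomputable def sepOK (k : ℕ) (w : List ℕ) (s : List ℕ × ℕ) : Bool :=
  agree ON.Tab.data bs (expand (s.1.flatMap (sub3 wx wy we), s.2)) [] &&
    differ ON.Tab.data bs (expand (s.1.flatMap (sub3 (expand (wx, k)) wy w), s.2)) []

noncomputable def test1 (i : ℕ) : Bool :=
  agree ON.Tab.data bs (cList.getD i []) we || agree ON.Tab.data bs (cList.getD i []) we2 ||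
    sepOK 1 (cList.getD i []) (seps1.getD i ([], 0))

theorem xPow : agree ON.Tab.data bs (expand (wx, 19)) [] = true := by decide +kernel

theorem xNe : differ ON.Tab.data bs wx [] = true := by decide +kernel

theorem yRel : agree ON.Tab.data bs (wx ++ wy) (wy ++ expand (wx, 8)) = true := by decide +kernel

theorem eRel : agree ON.Tab.data bs (we ++ wy) (wy ++ we) = true := by decide +kernel

theorem e2Ne : differ ON.Tab.data bs we2 we = true := by decide +kernel

theorem zeroX : walk ON.Tab.data.T wx 0 (fun e => Nat.beq e 0) = true := by decide +kernel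

theorem zeroY : walk ON.Tab.data.T wy 0 (fun e => Nat.beq e 0) = true := by decide +kernel

theorem keyX : keyOK ON.Tab.data ON.Orb.orb wx wx 15 3 xRest xLab = true := by decide +kernel

theorem candX : (xCands.all fun e => lett ON.Tab.data e.1 &&
    agree ON.Tab.data bs (wx ++ e.1) (e.1 ++ wx) && mapsTo ON.Tab.data e.1 (15 :: xRest) e.2) =
    true := by decide +kernel

theorem powX : xCands.map Prod.fst = (List.range 19).map fun k => expand (wx, k) := by decide +kernel

theorem pinKeyX : pinKey ON.Tab.data ON.Orb.orb (15 :: xRest) 17611 2 xPins = true := by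
  decide +kernel

theorem keyY : keyOK ON.Tab.data ON.Orb.orb wy wy 10260 4 yRest yLab = true := by decide +kernel

theorem candY : (yCands.all fun e => lett ON.Tab.data e.1 &&
    agree ON.Tab.data bs (wy ++ e.1) (e.1 ++ wy) && mapsTo ON.Tab.data e.1 (10260 :: yRest) e.2) =
    true := by decide +kernel

theorem keyZ : chainKey ON.Tab.data ON.Orb.orb wy 15 15 zRest zLab = true := by decide +kernel

theorem pinKeyY1 : pinKey ON.Tab.data ON.Orb.orb (10260 :: yRest) 15 3 yPins1 = true := by
  decide +kernel

theorem pinKeyY2 : pinKey ON.Tab.data ON.Orb.orb ((15 :: zRest) ++ (10260 :: yRest)) 17611 2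
    yPins2 = true := by
  decide +kernel

theorem fixY_cover : ∀ c ∈ fixY, c ∈ reach.map Prod.fst ∨ ∃ i < 3, (away.getD i (0, [], [])).1 = c := by
  decide +kernel

theorem reachOK : (reach.all fun e => lett ON.Tab.data e.2 &&
    walk ON.Tab.data.T e.2 0 (fun d => Nat.beq d e.1) &&
    agree ON.Tab.data bs (wy ++ e.2) (e.2 ++ wy)) = true := by decide +kernel

theorem awayOK : ((List.range 3).all fun i =>
    lett ON.Tab.data (away.getD i (0, [], [])).2.1 &&
    walk ON.Tab.data.T (away.getD i (0, [], [])).2.1 0
      (fun d => Nat.beq d (away.getD i (0, [], [])).1) &&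
    agree ON.Tab.data bs ((away.getD i (0, [], [])).2.2 ++ (away.getD i (0, [], [])).2.1)
      ((away.getD i (0, [], [])).2.1 ++ wy) &&
    keyOK ON.Tab.data ON.Orb.orb wy (away.getD i (0, [], [])).2.2 589 4 nRest nLab) = true := by
  decide +kernel

theorem cList_length : cList.length = 72 := by decide +kernel

theorem genOK : ((List.range 8).all fun g => (gwf g).all (fun j => Nat.blt j 3) &&
    agree ON.Tab.data bs [g] ((gwf g).flatMap (sub3 wx wy we))) = true := by decide +kernel

theorem mapInv : ((List.range 8).all fun g =>
    agree ON.Tab.data bs (vf g ++ vf (ON.iv g)) []) = true := by decide +kernel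

theorem mapRel : ((relList Cfsg.Spor.ON.edges Cfsg.Spor.ON.extra).all fun r =>
    agree ON.Tab.data bs ((wordOf ON.ix ON.iv r).flatMap vf) []) = true := by decide +kernel

theorem mapX : agree ON.Tab.data bs (wx.flatMap vf) wx = true := by decide +kernel

theorem mapY : agree ON.Tab.data bs (wy.flatMap vf) wy = true := by decide +kernel

theorem mapE : agree ON.Tab.data bs (we.flatMap vf) we2 = true := by decide +kernel

end Cert
end ONOut
end H62
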