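import Mathlib
import Cfsg.Agent.H62.ONOut.Small

/-!
The separating relations for exponent 1.
-/

set_option autoImplicit false
set_option maxRecDepth 100000
set_option linter.all false

namespace H62
namespace ONOut
namespace Cert

open H93 H93.CosetI

theorem tested1 : ((List.range 72).all fun i => test1 i) = true := by decide +kernel

end Cert
end ONOut
end H62
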