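import Mathlib
import Cfsg.Prelude.Def_KGroupFacts
import Cfsg.Agent.H93.ONOrder
import Cfsg.Agent.H62.ONOut.Crit
import Cfsg.Agent.H62.ONOut.ScanX
import Cfsg.Agent.H62.ONOut.ScanY
import Cfsg.Agent.H62.ONOut.SrchX
import Cfsg.Agent.H62.ONOut.SrchY
import Cfsg.Agent.H62.ONOut.SrchN
import Cfsg.Agent.H62.ONOut.Test1
import Cfsg.Agent.H62.ONOut.Test2
import Cfsg.Agent.H62.ONOut.Test4

/-!
The outer automorphism group of the presented O'Nan group has order two.
-/

set_option autoImplicit false

namespace H62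
namespace ONOut
namespace Cert

open H93 H93.CosetI

local notation "G" => Cfsg.Spor.ON
local notation "D" => ON.Tab.data

theorem n_eq : (D).n = 122760 := rfl

theorem n_pos : 0 < (D).n := ON.Tab.tables.pos

theorem oid_inv : ∀ h ∈ ON.H, ∀ c < (D).n,
    oid ON.Orb.orb (img ON.model h c) = oid ON.Orb.orb c := by
  have hspec : ∀ g < 6, ∀ c < (D).n, oid ON.Orb.orb ((D).T g c) = oid ON.Orb.orb c := by
    intro g hg c hc
    have h := ON.Orb.nodes c hc
    simp only [orbNode, force_eq, band_iff] at h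
    have := allRange_spec h.1 g (Nat.zero_le _) (by omega)
    rw [force_eq, Nat.beq_eq] at this
    exact this
  intro h hh
  induction hh using Subgroup.closure_induction'' with
  | mem x hx =>
    obtain ⟨g, hg, rfl⟩ := hx
    intro c hc
    have hg8 : g < (D).ng := Nat.lt_of_lt_of_le hg (by decide +kernel)
    rw [show ON.gen g = ev ON.gen [g] by simp [ev], img_word ON.model (by simpa using hg8) hc]
    exact hspec g hg c hc
  | inv_mem x hx =>
    obtain ⟨g, hg, rfl⟩ := hx
    intro c hc
    have hg8 : g < (D).ng := Nat.lt_of_lt_of_le hg (by decide +kernel)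
    obtain ⟨-, -, hiv, hivg⟩ := ON.Tab.tables.closed hg8 hc
    obtain ⟨hb, hback, -, -⟩ := ON.Tab.tables.closed hiv hc
    rw [hivg] at hback
    rw [inv_eq_of_mul_eq_one_left (ON.model.inv g hg8),
      show ON.gen ((D).iv g) = ev ON.gen [(D).iv g] by simp [ev],
      img_word ON.model (by simpa using hiv) hc]
    have := hspec g hg _ hb
    rw [hback] at this
    exact this.symm
  | one => intro c hc; rw [img_one ON.model hc]
  | mul x y _ _ hx hy =>
    intro c hc
    rw [img_mul ON.model x y hc, hx _ (img_lt ON.model y hc), hy c hc]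

theorem bs_lt : ∀ b ∈ bs, b < (D).n := by decide +kernel

theorem ctx : Ctx ON.model ON.Orb.orb bs where
  inv := oid_inv
  lt := bs_lt
  trivial := by
    intro z hz
    haveI := ON.finite_ON
    have h1 := ON.model.chain_bound_last _ [0] ON.Chain.ok
    rw [ON.model.fixSub_zero] at h1
    have h2 : Nat.card ON.H = chainProd ON.Chain.levels := by
      have := ON.H.index_mul_card
      rw [ON.index_H, ON.card_ON_and_core.1] at this
      rw [ON.Chain.prod_eq]
      omega
    have hp : 0 < chainProd ON.Chain.levels := h2 ▸ Nat.card_pos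
    have h3 : fixSub ON.model.act (chainPts [0] ON.Chain.levels) = ⊥ := by
      refine Subgroup.card_eq_one.mp (le_antisymm ?_ Nat.card_pos)
      exact Nat.le_of_mul_le_mul_left (show _ ≤ chainProd ON.Chain.levels * 1 by omega) hp
    have hpts : ∀ c ∈ chainPts [0] ON.Chain.levels, c ∈ bs := by decide +kernel
    have hmem : z ∈ fixSub ON.model.act (chainPts [0] ON.Chain.levels) := fun c hc => by
      have h4 := hz _ (hpts _ hc)
      rw [img, dif_pos c.isLt] at h4
      exact Fin.ext h4
    rwa [h3, Subgroup.mem_bot] at hmem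

noncomputable def x : G := ev ON.gen wx
noncomputable def y : G := ev ON.gen wy
noncomputable def e : G := ev ON.gen we
noncomputable def e2 : G := ev ON.gen we2

theorem eqw {u v : List ℕ} (h : agree D bs u v = true) : ev ON.gen u = ev ON.gen v :=
  eq_of_agree ctx h

theorem img_x_zero : img ON.model x 0 = 0 := by
  have h := keyX
  simp only [keyOK, Bool.and_eq_true] at h
  rw [x, img_word ON.model (lett_spec h.1.1.1.1) n_pos]
  simpa using zeroX

theorem img_y_zero : img ON.model y 0 = 0 := by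
  have h := keyY
  simp only [keyOK, Bool.and_eq_true] at h
  rw [y, img_word ON.model (lett_spec h.1.1.1.1) n_pos]
  simpa using zeroY

/-- an element commuting with `a` is in `H` as soon as `a` has one fixed node -/
theorem move_fixed {a g : G} (ha : img ON.model a 0 = 0) (hg : g * a = a * g) :
    img ON.model a (img ON.model g 0) = img ON.model g 0 := by
  rw [← img_mul ON.model _ _ n_pos, ← hg, img_mul ON.model _ _ n_pos, ha]

theorem cent_x (g : G) (hg : g * x = x * g) : ∃ a : ℕ, g = x ^ a := by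
  have hk := keyX
  simp only [keyOK, Bool.and_eq_true] at hk
  obtain ⟨⟨⟨⟨hwx, -⟩, hb⟩, -⟩, hch⟩ := id hk
  have hb' : 15 < (D).n := Data.blt_iff.mp hb
  have hc := fixIn_mem ON.model scanX_all (lett_spec hwx) (img_lt ON.model g n_pos)
    (move_fixed img_x_zero hg)
  have hgH : g ∈ ON.H := (mem_iff ON.model g).mpr (List.mem_singleton.mp hc)
  obtain ⟨c, hcm, hce⟩ := img_mem ctx keyX probeX_all hgH hg
  have hc3 := List.all_eq_true.mp candX c hcm
  simp only [Bool.and_eq_true] at hc3
  obtain ⟨⟨hlet, hcomm⟩, hmap⟩ := hc3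
  have hcomm' : ev ON.gen c.1 * x = x * ev ON.gen c.1 := by
    rw [x, ← ev_append, ← ev_append, eqw hcomm]
  have hlt := chainKey_lt ON.model (lett_spec hwx) xRest 15 xLab hb' hch
  have hm := mapsTo_spec ON.model (lett_spec hlet) _ _ hlt hmap
  rw [hce] at hm
  set v : G := ev ON.gen c.1 with hv
  have hzfix : ∀ p ∈ (15 : ℕ) :: xRest, p < (D).n ∧ img ON.model (v⁻¹ * g) p = p := fun p hp => by
    refine ⟨hlt p hp, ?_⟩
    rw [img_mul ON.model _ _ (hlt p hp)]
    exact img_inv ON.model (hlt p hp) ((List.map_inj_left.mp hm) p hp)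
  have hvH : v ∈ ON.H := by
    rw [mem_iff ON.model]
    have h0 := fixIn_mem ON.model scanX_all (lett_spec hwx) (img_lt ON.model v n_pos)
      (move_fixed img_x_zero hcomm')
    exact List.mem_singleton.mp h0
  have hzH : v⁻¹ * g ∈ ON.H := mul_mem (inv_mem hvH) hgH
  have hz : v⁻¹ * g = 1 := ctx.trivial _ fun b hb2 => by
    simp only [bs, List.mem_cons, List.not_mem_nil, or_false] at hb2
    rcases hb2 with rfl | rfl | rfl
    · exact (mem_iff ON.model _).mp hzH
    · exact (hzfix _ (by simp)).2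
    · exact pin_img ctx pinKeyX pinX_all hzH hzfix
  have hpw : c.1 ∈ xCands.map Prod.fst := List.mem_map_of_mem hcm
  rw [powX, List.mem_map] at hpw
  obtain ⟨k, -, hk'⟩ := hpw
  exact ⟨k, by rw [← (inv_mul_eq_one.mp hz), hv, ← hk', ev_expand]; rfl⟩

theorem cent_y_H (g : G) (hgH : g ∈ ON.H) (hg : g * y = y * g) :
    ∃ v ∈ yCands.map Prod.fst, g = ev ON.gen v := by
  have hk := keyY
  simp only [keyOK, Bool.and_eq_true] at hk
  obtain ⟨⟨⟨⟨hwy, -⟩, hb⟩, -⟩, hch⟩ := id hk
  have hb' : 10260 < (D).n := Data.blt_iff.mp hb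
  obtain ⟨c, hcm, hce⟩ := img_mem ctx keyY probeY_all hgH hg
  have hc3 := List.all_eq_true.mp candY c hcm
  simp only [Bool.and_eq_true] at hc3
  obtain ⟨⟨hlet, hcomm⟩, hmap⟩ := hc3
  have hcomm' : ev ON.gen c.1 * y = y * ev ON.gen c.1 := by
    rw [y, ← ev_append, ← ev_append, eqw hcomm]
  have hlt := chainKey_lt ON.model (lett_spec hwy) yRest 10260 yLab hb' hch
  have hm := mapsTo_spec ON.model (lett_spec hlet) _ _ hlt hmap
  rw [hce] at hm
  set v : G := ev ON.gen c.1 with hv
  have hzfix : ∀ p ∈ (10260 : ℕ) :: yRest, p < (D).n ∧ img ON.model (v⁻¹ * g) p = p :=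
    fun p hp => by
      refine ⟨hlt p hp, ?_⟩
      rw [img_mul ON.model _ _ (hlt p hp)]
      exact img_inv ON.model (hlt p hp) ((List.map_inj_left.mp hm) p hp)
  have hz_comm : v⁻¹ * g * y = y * (v⁻¹ * g) :=
    ((Commute.inv_left hcomm').mul_left hg).eq
  have hv0 : ∀ c ∈ yCands, walk (D).T c.1 0 (fun d => Nat.beq d 0) = true := by decide +kernel
  have hvH : v ∈ ON.H := by
    rw [mem_iff ON.model, hv, img_word ON.model (lett_spec hlet) n_pos]
    simpa using hv0 c hcm
  have hzH : v⁻¹ * g ∈ ON.H := mul_mem (inv_mem hvH) hgH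
  have h15 : img ON.model (v⁻¹ * g) 15 = 15 := pin_img ctx pinKeyY1 pinY1_all hzH hzfix
  have hzfix2 : ∀ p ∈ ((15 : ℕ) :: zRest) ++ ((10260 : ℕ) :: yRest),
      p < (D).n ∧ img ON.model (v⁻¹ * g) p = p := by
    intro p hp
    rcases List.mem_append.mp hp with hp | hp
    · exact chain_fixed ON.model (lett_spec hwy) hz_comm zRest 15 zLab
        (bs_lt 15 (by simp [bs])) h15 keyZ p hp
    · exact hzfix p hp
  have hz : v⁻¹ * g = 1 := ctx.trivial _ fun b hb2 => by
    simp only [bs, List.mem_cons, List.not_mem_nil, or_false] at hb2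
    rcases hb2 with rfl | rfl | rfl
    · exact (mem_iff ON.model _).mp hzH
    · exact h15
    · exact pin_img ctx pinKeyY2 pinY2_all hzH hzfix2
  exact ⟨c.1, List.mem_map_of_mem hcm, (inv_mul_eq_one.mp hz).symm⟩

theorem cent_y (g : G) (hg : g * y = y * g) : ∃ w ∈ cList, g = ev ON.gen w := by
  have hk := keyY
  simp only [keyOK, Bool.and_eq_true] at hk
  obtain ⟨⟨⟨⟨hwy, -⟩, -⟩, -⟩, -⟩ := id hk
  have hc := fixIn_mem ON.model scanY_all (lett_spec hwy) (img_lt ON.model g n_pos)
    (move_fixed img_y_zero hg)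
  rcases fixY_cover _ hc with h | ⟨i, hi, h⟩
  · obtain ⟨r, hr, hr1⟩ := List.mem_map.mp h
    have hr3 := List.all_eq_true.mp reachOK r hr
    simp only [Bool.and_eq_true, walk_eq, Nat.beq_eq] at hr3
    obtain ⟨⟨hlet, h0⟩, hcomm⟩ := hr3
    set hh : G := ev ON.gen r.2 with hhd
    have hh0 : img ON.model hh 0 = img ON.model g 0 := by
      rw [hhd, img_word ON.model (lett_spec hlet) n_pos, h0, hr1]
    have hcomm' : hh * y = y * hh := by
      rw [hhd, y, ← ev_append, ← ev_append, eqw hcomm]
    obtain ⟨v, hv, hve⟩ := cent_y_H (hh⁻¹ * g)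
      ((mem_iff ON.model _).mpr (by
        rw [img_mul ON.model _ _ n_pos]
        exact img_inv ON.model n_pos hh0))
      ((Commute.inv_left hcomm').mul_left hg).eq
    refine ⟨v ++ r.2, ?_, ?_⟩
    · exact List.mem_flatMap.mpr ⟨r.2, List.mem_map_of_mem hr,
        List.mem_map.mpr ⟨v, hv, rfl⟩⟩
    · rw [ev_append, ← hhd, ← hve, mul_inv_cancel_left]
  · exfalso
    have hr3 := List.all_eq_true.mp awayOK i (List.mem_range.mpr hi)
    simp only [Bool.and_eq_true, walk_eq, Nat.beq_eq] at hr3
    obtain ⟨⟨⟨hlet, h0⟩, hcomm⟩, hkey⟩ := hr3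
    set r := away.getD i (0, [], []) with hrd
    set v : G := ev ON.gen r.2.1 with hvd
    have hv0 : img ON.model v 0 = img ON.model g 0 := by
      rw [hvd, img_word ON.model (lett_spec hlet) n_pos, h0, h]
    have hconj : v * ev ON.gen r.2.2 = y * v := by
      rw [hvd, y, ← ev_append, ← ev_append, eqw hcomm]
    have hall : ∀ d < (D).n, probe D ON.Orb.orb r.2.2 4 nLab [] d = true := by
      intro d hd
      have : ∀ i < 3, ∀ d < (D).n, probeN i d = true := by
        intro j hj
        rcases (show j = 0 ∨ j = 1 ∨ j = 2 by omega) with rfl | rfl | rfl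
        · exact probeN0_all
        · exact probeN1_all
        · exact probeN2_all
      exact this i hi d hd
    obtain ⟨c, hcm, -⟩ := img_mem ctx hkey hall (g := v⁻¹ * g)
      ((mem_iff ON.model _).mpr (by
        rw [img_mul ON.model _ _ n_pos]
        exact img_inv ON.model n_pos hv0))
      (by
        show v⁻¹ * g * y = ev ON.gen r.2.2 * (v⁻¹ * g)
        rw [eq_inv_mul_of_mul_eq hconj, mul_assoc, hg]
        group)
    simp at hcm

theorem ev_flat (f : ℕ → List ℕ) (u : List ℕ) :
    ev ON.gen (u.flatMap f) = ev (fun j => ev ON.gen (f j)) u := by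
  induction u with
  | nil => rfl
  | cons j u ih => rw [List.flatMap_cons, ev_append, ih]; rfl

theorem map_ev {K : Type*} [Group K] (f : G →* K) {gen : ℕ → G} (u : List ℕ) :
    f (ev gen u) = ev (fun j => f (gen j)) u := by
  induction u with
  | nil => exact map_one f
  | cons j u ih => rw [ev, ev, map_mul, ih]

theorem ev_congr {K : Type*} [Group K] {f f' : ℕ → K} (u : List ℕ) (h : ∀ j ∈ u, f j = f' j) :
    ev f u = ev f' u := by
  induction u with
  | nil => rfl
  | cons j u ih =>
    rw [ev, ev, ih (fun a ha => h a (by simp [ha])), h j (by simp)]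

theorem ev_mem_sub {f : ℕ → G} (S : Subgroup G) : ∀ u : List ℕ, (∀ j ∈ u, f j ∈ S) →
    ev f u ∈ S := by
  intro u
  induction u with
  | nil => intro _; exact one_mem S
  | cons j u ih => intro h; exact mul_mem (ih fun a ha => h a (by simp [ha])) (h j (by simp))

theorem sep_absurd {k : ℕ} {w : List ℕ} {s : List ℕ × ℕ} (h : sepOK k w s = true)
    (ψ : MulAut G) (hx : ψ x = x ^ k) (hy : ψ y = y) (he : ψ e = ev ON.gen w) : False := by
  simp only [sepOK, Bool.and_eq_true] at h
  obtain ⟨hrel, hdiff⟩ := h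
  refine ne_of_differ ON.model hdiff ?_
  have hmap : ∀ u : List ℕ, ψ (ev ON.gen (u.flatMap (sub3 wx wy we))) =
      ev ON.gen (u.flatMap (sub3 (expand (wx, k)) wy w)) := by
    intro u
    rw [ev_flat, ev_flat]
    refine (map_ev ψ.toMonoidHom u).trans (ev_congr u fun j _ => ?_)
    show ψ (ev ON.gen (sub3 wx wy we j)) = _
    rcases (show j = 0 ∨ j = 1 ∨ j = 2 ∨ 3 ≤ j by omega) with rfl | rfl | rfl | hj
    · show ψ x = ev ON.gen (expand (wx, k)); rw [ev_expand]; exact hx
    · exact hy
    · exact he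
    · obtain ⟨d, rfl⟩ : ∃ d, j = d + 3 := ⟨j - 3, by omega⟩
      exact map_one ψ
  rw [ev_expand, ← hmap, ← map_pow, ← ev_expand, eqw hrel]
  exact map_one ψ

theorem outer_two : Nat.card (Cfsg.Out Cfsg.Spor.ON) = 2 := by
  haveI := ON.finite_ON
  haveI : IsSimpleGroup G := ON.isON.1
  have hxne : x ≠ 1 := ne_of_differ ON.model xNe
  have hxpow : x ^ 19 = 1 := by rw [x, ← ev_expand, eqw xPow]; rfl
  haveI : Fact (Nat.Prime 19) := ⟨by norm_num⟩
  have hord : orderOf x = 19 := orderOf_eq_prime hxpow hxne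
  have hyx : y * x * y⁻¹ = x ^ 8 := by
    rw [mul_inv_eq_iff_eq_mul, x, y, ← ev_expand, ← ev_append, ← ev_append]
    exact eqw yRel
  have hey : e * y = y * e := by
    rw [e, y, ← ev_append, ← ev_append]
    exact (eqw eRel).symm
  have hsq : ¬ 19 ^ 2 ∣ Nat.card G := by
    rw [ON.card_ON_and_core.1]; decide
  -- the outer map
  have hvinv := mapInv
  simp only [List.all_eq_true, List.mem_range] at hvinv
  let f : Cfsg.Spor.ON.Gen → G := fun a => ev ON.gen (vf (ON.ix a))
  have hfinv : ∀ a, ev ON.gen (vf (ON.iv (ON.ix a))) = (f a)⁻¹ := fun a => by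
    refine eq_inv_of_mul_eq_one_left ?_
    rw [← ev_append, eqw (hvinv (ON.ix a) (by cases a <;> decide))]
    rfl
  have hrel : ∀ r ∈ Cfsg.Spor.coxRelators Cfsg.Spor.ON.edges ∪ {r | r ∈ Cfsg.Spor.ON.extra},
      FreeGroup.lift f r = 1 := by
    intro r hr
    rw [lift_eq_ev f (fun j => ev ON.gen (vf j)) ON.ix ON.iv (fun _ => rfl) hfinv, ← ev_flat]
    have h1 := List.all_eq_true.mp mapRel r (mem_relList.mpr hr)
    rw [eqw h1]
    rfl
  let φ : G →* G := PresentedGroup.toGroup hrel
  have hφg : ∀ j < 8, φ (ON.gen j) = ev ON.gen (vf j) := by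
    have hof : ∀ a, φ (ON.gen (ON.ix a)) = ev ON.gen (vf (ON.ix a)) := fun a => by
      rw [ON.gen_ix]; exact PresentedGroup.toGroup.of hrel
    intro j hj
    match j, hj with
    | 0, _ => exact hof .a
    | 1, _ => exact hof .b
    | 2, _ => exact hof .c
    | 3, _ => exact hof .d
    | 4, _ => exact hof .e
    | 5, _ => exact hof .f
    | 6, _ => exact hof .g
    | 7, _ =>
      have h6 : φ (ON.gen 6) = f .g := hof .g
      rw [show ON.gen 7 = (ON.gen 6)⁻¹ from rfl, map_inv, h6]
      exact (hfinv .g).symm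
    | k + 8, h => exact absurd h (by omega)
  have hφw : ∀ w : List ℕ, lett D w = true → φ (ev ON.gen w) = ev ON.gen (w.flatMap vf) :=
    fun w hw => by
      rw [map_ev φ, ev_flat]
      exact ev_congr w fun j hj => hφg j (lett_spec hw j hj)
  have hkx := keyX
  have hky := keyY
  simp only [keyOK, Bool.and_eq_true] at hkx hky
  have hel : lett D we = true := by decide +kernel
  have hφx : φ x = x := by rw [x, hφw _ hkx.1.1.1.1, eqw mapX]
  have hφy : φ y = y := by rw [y, hφw _ hky.1.1.1.1, eqw mapY]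
  have hφe : φ e = e2 := by rw [e, e2, hφw _ hel, eqw mapE]
  have hinj : Function.Injective φ := by
    rw [← MonoidHom.ker_eq_bot_iff]
    refine (Subgroup.Normal.eq_bot_or_eq_top (inferInstance : φ.ker.Normal)).resolve_right
      fun h => ?_
    have hx1 : φ x = 1 := (MonoidHom.mem_ker).1 (h ▸ Subgroup.mem_top x : x ∈ φ.ker)
    rw [hφx] at hx1
    exact hxne hx1
  let φ₀ : MulAut G := MulEquiv.ofBijective φ (Finite.injective_iff_bijective.mp hinj)
  refine out_card_two x y e e2 hsq hord hyx cent_x ?_ ?_ φ₀ hφx hφy hφe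
    (ne_of_differ ON.model e2Ne)
  · rw [eq_top_iff, ← show Subgroup.closure (ON.gen '' {g | g < (D).ng}) = ⊤ from
      ON.model.generates, Subgroup.closure_le]
    rintro _ ⟨g, hg, rfl⟩
    have hg' := List.all_eq_true.mp genOK g (List.mem_range.mpr hg)
    simp only [Bool.and_eq_true, List.all_eq_true] at hg'
    obtain ⟨hlet, hag⟩ := hg'
    have h1 := eqw hag
    rw [ev_flat, show ev ON.gen [g] = ON.gen g by simp [ev]] at h1
    rw [h1]
    refine ev_mem_sub _ _ fun j hj => ?_
    have hj3 : j < 3 := Data.blt_iff.mp (hlet j hj)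
    apply Subgroup.subset_closure
    rcases (show j = 0 ∨ j = 1 ∨ j = 2 by omega) with rfl | rfl | rfl
    · exact Or.inl rfl
    · exact Or.inr (Or.inl rfl)
    · exact Or.inr (Or.inr rfl)
  · intro ψ k hk hψx hψy
    obtain ⟨w, hw, hwe⟩ := cent_y (ψ e) (by
      calc ψ e * y = ψ e * ψ y := by rw [hψy]
        _ = ψ (e * y) := (map_mul ψ e y).symm
        _ = ψ (y * e) := by rw [hey]
        _ = y * ψ e := by rw [map_mul, hψy])
    obtain ⟨i, hi, rfl⟩ := List.getElem_of_mem hw
    have hi' : i ∈ List.range 72 := List.mem_range.mpr (cList_length ▸ hi)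
    have hget : cList.getD i [] = cList[i] := List.getD_eq_getElem _ _ hi
    rcases hk with rfl | rfl | rfl
    · have ht := List.all_eq_true.mp tested1 i hi'
      simp only [test1, hget, Bool.or_eq_true] at ht
      rcases ht with (ht | ht) | ht
      · exact ⟨rfl, Or.inl (hwe.trans (eqw ht))⟩
      · exact ⟨rfl, Or.inr (hwe.trans (eqw ht))⟩
      · exact (sep_absurd ht ψ hψx hψy hwe).elim
    · have ht := List.all_eq_true.mp tested2 i hi'
      rw [hget] at ht
      exact (sep_absurd ht ψ hψx hψy hwe).elim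
    · have ht := List.all_eq_true.mp tested4 i hi'
      rw [hget] at ht
      exact (sep_absurd ht ψ hψx hψy hwe).elim

end Cert
end ONOut
end H62
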